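import Cfsg.Agent.H375.Out.Def
import Cfsg.Agent.H375.Out.Split

/-!
# E5, piece (G): `X ∩ O(Q) = Ω(Q)` (helper228)

* `mem_Om_of_odd` : isometries of odd order are in `Ω(Q)`;
* `exists_tor` : an element of prime order `l`, `Zs q l 0 e`, `e = n - 1` (`n` even), `e = 2 (n - 1)` (`n` odd);
* `not_two` : `Ω(Q)` has no element of order `2 l`;
* `gi_lin` : `Hyp Q X`, `g ∈ O(Q)`, `g ∈ X` : `g ∈ Ω(Q)`.
-/

set_option autoImplicit false
set_option linter.unusedVariables false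
set_option linter.unusedSectionVars false

namespace Cfsg.Agent.H228.Out

open Module Finset QuadraticMap Cfsg Cfsg.Agent.H375.Odd Cfsg.Agent.H375.Out
open Cfsg.Agent.LieClassical.OrthCount Cfsg.Agent.LieClassical.OmegaReindex Cfsg.Agent.LieClassical
open Cfsg.Agent.ClassicalGeometry

variable {F : Type*} [Field F] [Fintype F] [CharP F 2] {ι : Type} [Fintype ι] [DecidableEq ι]
  {Q : QuadraticForm F (ι → F)}

/-- isometries of odd order are in `Ω(Q)` -/
theorem mem_Om_of_odd (hQ : (polarBilin Q).Nondegenerate) (h5 : 5 ≤ Fintype.card ι) (hev : Even (Fintype.card ι))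
    {g : (ι → F) ≃ₗ[F] (ι → F)} (hg : g ∈ OQ (⇑Q)) {k : ℕ} (hk : Odd k) (hgk : g ^ k = 1) : g ∈ Om Q := by
  rw [mem_Om hQ h5 hev]
  refine ⟨hg, ?_⟩
  have h1 := even_bW (alt_of hQ) (OQ_le (qf_of Q) hg) hk hgk
  have h2 := finrank_bW_add (F := F) g
  rw [finrank_fintype_fun_eq_card] at h2
  rw [← h2] at hev
  exact (Nat.even_add.1 hev).1 h1

/-- the torus element -/
theorem exists_tor (hQ : (polarBilin Q).Nondegenerate) (hiso : ∃ u : ι → F, u ≠ 0 ∧ Q u = 0) {n : ℕ} (hn : 4 ≤ n)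
    (hι : Fintype.card ι = 2 * n) : ∃ (l e M : ℕ) (h : (ι → F) ≃ₗ[F] (ι → F)), Blk (Fintype.card F) l 0 e (n - 1) M ∧
      h ∈ Om Q ∧ orderOf h = l := by
  have hev : Even (Fintype.card ι) := by rw [hι]; exact even_two_mul n
  have hq0 : 0 < Fintype.card F := Fintype.card_pos
  -- the type
  obtain ⟨l, e, M, B, he⟩ : ∃ l e M : ℕ, Blk (Fintype.card F) l 0 e (n - 1) M ∧ e ∣ 2 * (n - 1) := by
    rcases Nat.even_or_odd n with hne | hno
    · have hodd : Odd (n - 1) := Nat.Even.sub_odd (by omega) hne odd_one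
      obtain ⟨l, hz⟩ := exists_zs (F := F) (e := n - 1) (by omega) (by
        rintro ⟨-, h⟩
        rw [h] at hodd
        exact absurd hodd (by decide))
      exact ⟨l, n - 1, _, ⟨hz, Or.inl ⟨hodd, rfl, rfl⟩⟩, Dvd.intro_left 2 rfl⟩
    · obtain ⟨l, hz⟩ := exists_zs (F := F) (e := 2 * (n - 1)) (by omega) (by
        rintro ⟨-, h⟩
        have h4 : n = 4 := by omega
        rw [h4] at hno
        exact absurd hno (by decide))
      exact ⟨l, 2 * (n - 1), _, ⟨hz, Or.inr ⟨by omega, rfl, rfl⟩⟩, dvd_rfl⟩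
  refine ⟨l, e, M, ?_⟩
  have hl := B.hz.hl
  have := Fact.mk hl
  have h1 : l ∣ Fintype.card F ^ (2 * (n - 1)) - 1 := by
    have := (B.hz.hq (2 * (n - 1))).2 he
    rwa [zero_add, pow_one] at this
  have h2 : l ∣ Nat.card (Matrix.symplecticGroup (Fin (n - 1)) F) := by
    have h3 := Cfsg.Agent.S0245.result (F := F) rfl (n - 1)
    rw [h3]
    refine Dvd.dvd.mul_left (h1.trans ?_) _
    have h4 := Finset.dvd_prod_of_mem (fun i => Fintype.card F ^ (2 * (i + 1)) - 1)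
      (Finset.mem_range.2 (show n - 2 < n - 1 by omega))
    rwa [show 2 * (n - 2 + 1) = 2 * (n - 1) by omega] at h4
  have hfin : Finite (Matrix.symplecticGroup (Fin (n - 1)) F) := Finite.of_injective _ Subtype.val_injective
  obtain ⟨x, hx⟩ := exists_prime_orderOf_dvd_card' l h2
  obtain ⟨f, hf⟩ := H382.SpOm.exists_sp_in_omega Q hQ (m := n - 1) (by omega) (Or.inl (by omega))
  obtain ⟨s, hs, hso⟩ := exists_of_pom (data_two hQ (by omega) hiso) (f x)
  rw [orderOf_injective f hf, hx] at hso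
  exact ⟨s, B, mem_Om_of_odd hQ (by omega) hev hs (hl.odd_of_ne_two B.hz.hl2) (by rw [← hso, pow_orderOf_eq_one]), hso⟩

/-- `Ω(Q)` has no element of order `2 l` -/
theorem not_two (hQ : (polarBilin Q).Nondegenerate) {n : ℕ} (hn : 4 ≤ n) (hι : Fintype.card ι = 2 * n) {l e M : ℕ}
    (B : Blk (Fintype.card F) l 0 e (n - 1) M) {y : (ι → F) ≃ₗ[F] (ι → F)} (hy : y ∈ Om Q) : orderOf y ≠ 2 * l := by
  intro ho
  have hev : Even (Fintype.card ι) := by rw [hι]; exact even_two_mul n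
  have hdim : finrank F (ι → F) = 2 * n := by rw [finrank_fintype_fun_eq_card, hι]
  have hβ := alt_of hQ
  obtain ⟨s, x, u, hs, hx, hu, hT, -, huo, h1, h2, -, h3⟩ := split hβ B (by omega) (R := 1) (c := 1) odd_one
    (Nat.coprime_one_left M) (OQ_le (qf_of Q) (Om_le hy)) (by rw [ho, pow_one, one_mul, zero_add, pow_one])
  rw [pow_zero, pow_one] at h1 h2 h3
  rw [pow_one] at huo
  have hsO : s ∈ Om Q := mem_of_zpowers hy hs
  have huO : u ∈ Om Q := mem_of_zpowers hy hu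
  have hodd : Odd l := B.hz.hl.odd_of_ne_two B.hz.hl2
  have hsl : s ^ l = 1 := by
    have := hT.ho
    rw [zero_add, pow_one] at this
    rw [← this, pow_orderOf_eq_one]
  have hus : ∀ v, u (s v) = s (u v) := by
    obtain ⟨i, rfl⟩ := Subgroup.mem_zpowers_iff.1 hs
    obtain ⟨j, rfl⟩ := Subgroup.mem_zpowers_iff.1 hu
    intro v
    show (y ^ j * y ^ i) v = (y ^ i * y ^ j) v
    rw [← zpow_add, ← zpow_add, add_comm]
  have h4 := bW_le_bV hodd hsl hus h3
  have h5 := finrank_bW_add (F := F) u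
  have h6 := ((mem_Om hQ (by omega) hev).1 huO).2
  have h7 := Submodule.finrank_mono h4
  have hu1 : u ≠ 1 := by
    rintro rfl
    rw [orderOf_one] at huo
    omega
  have h8 : finrank F (bW u) ≠ 0 := fun h => bW_ne_bot hu1 (Submodule.finrank_eq_zero.1 h)
  have h9 : finrank F (bW u) = 2 := by
    obtain ⟨k, hk⟩ := h6
    omega
  have h10 : bW u = bV s := Submodule.eq_of_le_of_finrank_le h4 (by omega)
  have h11 : bV s ≤ bV u := by
    rw [← h10]
    rintro _ ⟨v, rfl⟩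
    rw [mem_bV]
    have h12 : (Nu u ^ 2 ^ 1) v = 0 := by
      rw [Nu_pow, pow_one, ← huo, pow_orderOf_eq_one, Nu_one]
      rfl
    have h13 : Nu u (Nu u v) = 0 := by
      rw [pow_one, pow_two] at h12
      exact h12
    exact sub_eq_zero.1 h13
  apply hu1
  apply LinearEquiv.ext
  intro v
  obtain ⟨w, hw, z, hz, rfl⟩ := exists_split hodd hsl v
  rw [map_add, h3 w hw, mem_bV.1 (h11 hz)]
  rfl

theorem isoL_apply (X : Cfsg.isometryGroup F (⇑Q)) (v : ι → F) :
    isoL Q X v = Matrix.mulVec ((X : Matrix.GeneralLinearGroup ι F) : Matrix ι ι F) v := rfl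

/-- **`X ∩ O(Q) = Ω(Q)`.** -/
theorem gi_lin (hQ : (polarBilin Q).Nondegenerate) (hiso : ∃ u : ι → F, u ≠ 0 ∧ Q u = 0) {n : ℕ} (hn : 4 ≤ n)
    (hι : Fintype.card ι = 2 * n) {X : Subgroup (Equiv.Perm (ι → F))} (H : Hyp Q X) {g : (ι → F) ≃ₗ[F] (ι → F)}
    (hg : g ∈ OQ (⇑Q)) (hgX : lp F (ι → F) g ∈ X) : g ∈ Om Q := by
  by_contra hgO
  have hev : Even (Fintype.card ι) := by rw [hι]; exact even_two_mul n
  have hdim : finrank F (ι → F) = 2 * n := by rw [finrank_fintype_fun_eq_card, hι]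
  have hβ := alt_of hQ
  obtain ⟨l, e, M, h, B, hh, hho⟩ := exists_tor hQ hiso hn hι
  have hodd : Odd l := B.hz.hl.odd_of_ne_two B.hz.hl2
  have hhl : h ^ l = 1 := by rw [← hho, pow_orderOf_eq_one]
  have hT : Tor h l 0 e := B.hz.tor (by rw [zero_add, pow_one, hho])
  have hhβ : h ∈ Isom (polarBilin Q) := OQ_le (qf_of Q) (Om_le hh)
  obtain ⟨h1, -⟩ := B.core hβ hT hhβ (by omega)
  rw [pow_zero, pow_one] at h1
  have h2 := finrank_bW_add (F := F) h
  -- a nonsingular vector fixed by `h`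
  obtain ⟨w, hw, hw0⟩ : ∃ w ∈ bV h, Q w ≠ 0 := by
    by_contra hcon
    push Not at hcon
    have h3 : bV h ≠ ⊥ := by
      intro h3
      rw [h3, finrank_bot] at h2
      omega
    obtain ⟨v, hv, hv0⟩ := (Submodule.ne_bot_iff _).1 h3
    apply hv0
    apply nd_bV hβ hhβ hodd hhl v hv
    intro z hz
    show polar Q v z = 0
    rw [polar, hcon _ ((bV h).add_mem hv hz), hcon v hv, hcon z hz]
    simp
  obtain ⟨Y, rfl⟩ := exists_isoL (Om_le hh)
  obtain ⟨Z, rfl⟩ := exists_isoL hg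
  have hYw : Matrix.mulVec ((Y : Matrix.GeneralLinearGroup ι F) : Matrix ι ι F) w = w := mem_bV.1 hw
  set ρ := Reflection.reflIso Q w hw0 with hρ
  have hcom : Y * ρ = ρ * Y := by
    have h3 := Reflection.conj_reflIso Q w hw0 Y (by rw [hYw]; exact hw0)
    rw [← hρ, mul_inv_eq_iff_eq_mul] at h3
    rw [h3]
    congr 1
    apply Reflection.isometryGroup_ext
    intro x
    rw [hρ, Reflection.coe_reflIso, Reflection.coe_reflIso, hYw]
  have h2F : (2 : F) = 0 := CharTwo.two_eq_zero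
  have hne : (∃ θ : F, θ ≠ 0 ∧ θ ≠ 1) ∨ Fintype.card ι ≠ 4 := Or.inr (by omega)
  have : Nonempty ι := Fintype.card_pos_iff.1 (by omega)
  have hidx := OrthDickson.index_commutator_two Q h2F hQ hne
  have hρc : ρ ∉ commutator (Cfsg.isometryGroup F (⇑Q)) := OrthDickson.refl_notMem_commutator Q hQ hne w hw0
  have hZc : Z ∉ commutator (Cfsg.isometryGroup F (⇑Q)) := fun h => hgO ⟨Z, h, rfl⟩
  have hρZ : ρ * Z⁻¹ ∈ commutator (Cfsg.isometryGroup F (⇑Q)) := by
    refine (Subgroup.mul_mem_iff_of_index_two hidx (a := ρ) (b := Z⁻¹)).2 ?_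
    exact ⟨fun h => absurd h hρc, fun h => absurd ((Subgroup.inv_mem_iff _).1 h) hZc⟩
  have hρX : lp F (ι → F) (isoL Q ρ) ∈ X := by
    have h3 : lp F (ι → F) (isoL Q (ρ * Z⁻¹)) ∈ X := H.le ⟨_, ⟨_, hρZ, rfl⟩, rfl⟩
    have h4 := X.mul_mem h3 hgX
    rwa [← map_mul, ← map_mul, inv_mul_cancel_right] at h4
  have hhX : lp F (ι → F) (isoL Q Y) ∈ X := H.le ⟨_, hh, rfl⟩
  have hprod := X.mul_mem hρX hhX
  rw [← map_mul, ← map_mul] at hprod
  obtain ⟨y, hy, hyo⟩ := H.ord _ hprod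
  rw [orderOf_injective _ lp_injective, orderOf_injective _ isoL_injective] at hyo
  have hρ2 : orderOf ρ = 2 := by
    apply orderOf_eq_prime
    · rw [pow_two]
      exact Reflection.reflIso_mul_self Q w hw0
    · rintro h
      rw [h] at hρc
      exact hρc (Subgroup.one_mem _)
  have hYo : orderOf Y = l := by rw [← hho, orderOf_injective _ isoL_injective]
  have hlast : orderOf (ρ * Y) = 2 * l := by
    have hc : Commute ρ Y := hcom.symm
    rw [hc.orderOf_mul_eq_mul_orderOf_of_coprime (by rw [hρ2, hYo]; exact Nat.coprime_two_left.2 hodd), hρ2, hYo]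
  exact not_two hQ hn hι B hy (by rw [hyo, hlast])

end Cfsg.Agent.H228.Out
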